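import Cfsg.Agent.Goldschmidt.Fusion
import Cfsg.Agent.Walter.RankThree.Basic
import Cfsg.Agent.Components.Signalizer.Sft.Main
import Cfsg.Agent.OddChar.PF.OddOrder

/-!
The big branch without moved components: the cores form a balanced functor on `A`.
-/

set_option autoImplicit false
set_option linter.unusedSectionVars false
set_option linter.style.haveILetI false

namespace Cfsg.Lib.Goldschmidt.Big

open Subgroup Cfsg.Lib.Components
open Cfsg.Lib.Walter (IsComp Triv Oc)

universe u

variable {G : Type u} [Group G] [Finite G] {S : Sylow 2 G} {A : Subgroup G}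

/-- The join of the cores of the centralisers of the involutions of `A`. -/
def Wcore (A : Subgroup G) : Subgroup G := ⨆ v : {v : G // v ∈ A ∧ v ≠ 1}, Oc v.1

theorem oc_le_wcore {v : G} (hv : v ∈ A) (hv1 : v ≠ 1) : Oc v ≤ Wcore A :=
  le_iSup (fun v : {v : G // v ∈ A ∧ v ≠ 1} => Oc v.1) ⟨v, hv, hv1⟩

theorem norm_wcore : normalizer (A : Set G) ≤ normalizer (Wcore A : Set G) := fun g hg => by
  refine ZStarApps.mem_normalizer_of_maps fun x hx => ?_
  refine (iSup_le fun v => ?_ : Wcore A ≤ (Wcore A).comap (MulAut.conj g).toMonoidHom) hx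
  intro y hy
  exact oc_le_wcore ((mem_normalizer_iff.1 hg v.1).1 v.2.1) (fun e => v.2.2 (conj_eq_one_iff.1 e))
    (Walter.R3.conj_mem_oc hy)

/-- A subgroup normalised by everything in sight gives properness. -/
theorem ne_top_of_odd (h : Min S A) {W : Subgroup G} (hW : W ≠ ⊥) (ho : Odd (Nat.card ↥W)) :
    normalizer (W : Set G) ≠ ⊤ := fun e => by
  haveI := h.simple
  rcases IsSimpleGroup.eq_bot_or_eq_top_of_normal _ (normalizer_eq_top_iff.1 e) with e' | e'
  · exact hW e'
  · rw [e', card_top] at ho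
    obtain ⟨x, hx, hx1⟩ := (bot_or_exists_ne_one A).resolve_left h.ne_bot
    exact Nat.not_even_iff_odd.2 ho (even_iff_two_dvd.2 (h.ord_two hx hx1 ▸ orderOf_dvd_natCard x))

/-- **No moved component.** -/
theorem proper_of_no_moved (h : Min S A) (hA : Local A) (h8 : 8 ≤ Nat.card A) (hno : ∀ a L, ¬ Moved A a L) :
    Proper A := by
  haveI : Fact (Nat.Prime 2) := ⟨Nat.prime_two⟩
  haveI := h.simple
  have hodd : ∀ a : G, Odd (Nat.card ↥(Oc a)) := fun a =>
    Nat.coprime_two_right.1 (centralizerPPrimeCore_card_coprime a)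
  have hcent : ∀ {M : Subgroup G}, normalizer (A : Set G) ≤ M → ∀ {a : G}, a ∈ A → a ≠ 1 → Oc a ≤ M →
      centralizer ({a} : Set G) ≤ M := fun {M} hM {a} ha ha1 hOc => (hA.generated ha ha1).trans
    (sup_le (sup_le hOc (iSup_le fun L => absurd L.2 (hno a L.1))) (inf_le_left.trans hM))
  have hθ : Cfsg.IsSolvableSignalizerFunctor 2 A (fun v => Oc v) := by
    refine ⟨⟨fun a _ _ => Cfsg.Lib.Components.centralizerPPrimeCore_le_centralizer a, fun a _ _ h2 => ?_,
      fun a ha _ b hb x hx => (mem_normalizer_iff.1 (Walter.R3.oc_norm a (h.le_cent ha hb)) x).1 hx,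
      fun a ha ha1 b hb hb1 x hx => hA.faith hb hb1 ha ha1 (mem_inf.1 hx).1 (mem_inf.1 hx).2
        fun L hL => absurd hL (hno b L)⟩,
      fun a _ _ => Cfsg.Agent.PF.isSolvable_of_odd _ (hodd a)⟩
    exact Nat.not_even_iff_odd.2 (hodd a) (even_iff_two_dvd.2 h2)
  obtain ⟨W, hW, hle⟩ := Cfsg.Lib.Sft.exists_member h.elemAb (le_trans (by norm_num) h8) hθ
  have ho : Odd (Nat.card ↥(Wcore A)) := by
    refine Odd.of_dvd_nat ?_ (card_dvd_of_le (iSup_le fun v => hle v.1 v.2.1 v.2.2))
    rw [← Nat.not_even_iff_odd, even_iff_two_dvd]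
    exact hW.2.1
  by_cases hWb : Wcore A = ⊥
  · refine h.proper_of_le (M := normalizer (A : Set G)) (fun e => ?_) fun a ha ha1 =>
      hcent le_rfl ha ha1 ((oc_le_wcore ha ha1).trans (hWb.le.trans bot_le))
    rcases IsSimpleGroup.eq_bot_or_eq_top_of_normal A (normalizer_eq_top_iff.1 e) with e' | e'
    · exact h.ne_bot e'
    · exact h.nonab ⟨⟨fun x y => h.comm x (e' ▸ mem_top x) y (e' ▸ mem_top y)⟩⟩
  · exact h.proper_of_le (ne_top_of_odd h hWb ho) fun a ha ha1 =>
      hcent norm_wcore ha ha1 ((oc_le_wcore ha ha1).trans le_normalizer)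

end Cfsg.Lib.Goldschmidt.Big
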