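import Cfsg.Agent.Goldschmidt.Big.Join
import Cfsg.Agent.Goldschmidt.Big.NoMoved
import Cfsg.Agent.Walter.Big.Signalizer

/-!
The big branch: the configuration is 3-balanced on `A`, the closure has odd order, and when it is nontrivial its
normaliser contains every centraliser of an involution of `A`; with the trivial closure this gives `bigSpec`.
-/

set_option autoImplicit false
set_option linter.unusedSectionVars false
set_option linter.style.haveILetI false

namespace Cfsg.Lib.Goldschmidt.Big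

open Subgroup Cfsg.Lib.Components Cfsg.Lib.KBal
open Cfsg.Lib.Walter (IsComp Triv Oc)
open Cfsg.Lib.Walter.Big (W3 odd_core)

universe u

variable {G : Type u} [Group G] [Finite G] {S : Sylow 2 G} {A : Subgroup G}

theorem isEA (h : Min S A) {B : Subgroup G} (hB : B ≤ A) : Cfsg.IsElementaryAbelian 2 B :=
  ⟨⟨⟨fun x y => Subtype.ext (h.comm x (hB x.2) y (hB y.2))⟩⟩, fun x hx => by
    rw [pow_two]; exact h.sq x (hB hx)⟩

/-- 3-balance on `A`. -/
theorem balanced (h : Min S A) (hA : Local A) : Cfsg.IsKBalancedWrt 2 3 A := by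
  haveI : Fact (Nat.Prime 2) := ⟨Nat.prime_two⟩
  intro B hB _ hB8 a ha ha1 x hx
  have hB8' : 8 ≤ Nat.card B := by simpa using hB8
  have hmem := mem_signalizerDelta.1 hx.1
  obtain ⟨b₀, hb₀B, hb₀1⟩ := (bot_or_exists_ne_one B).resolve_left (fun e => by
    rw [e, card_bot] at hB8'; omega)
  refine hA.faith ha ha1 (hB hb₀B) hb₀1 (hmem b₀ hb₀B hb₀1) hx.2 fun L hm => ?_
  by_cases hex : ∃ b ∈ B, b ≠ 1 ∧ b ∈ ZA A a L
  · obtain ⟨b, hbB, hb1, hbZ⟩ := hex
    exact hA.bal hm hbZ hb1 (hmem b hbB hb1) hx.2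
  push Not at hex
  by_contra hnt
  have h4 := hA.unbal_four hm ⟨b₀, hB hb₀B, hb₀1, x, hmem b₀ hb₀B hb₀1, hx.2, hnt⟩
  have h1 : (ZA A a L).subgroupOf B = ⊥ := by
    rw [eq_bot_iff]
    intro b hb
    by_contra hb1
    exact hex b b.2 (fun e => hb1 (mem_bot.2 (Subtype.ext e))) hb
  have h2 : (ZA A a L).relIndex B ≤ (ZA A a L).relIndex A :=
    relIndex_le_of_le_right hB index_ne_zero_of_finite
  rw [relIndex, h1, index_bot, h4] at h2
  omega

theorem odd_W3 (h : Min S A) (hA : Local A) (h64 : 64 ≤ Nat.card A) : Odd (Nat.card (W3 A)) := by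
  haveI : Fact (Nat.Prime 2) := ⟨Nat.prime_two⟩
  have hAe := h.elemAb
  have hAk : 2 ^ (3 + 2) ≤ Nat.card A := le_trans (by norm_num) h64
  have hbal := balanced h hA
  set θ := fun a : G => ⨆ D : {D : Subgroup G // D ≤ A ∧ Nat.card ↥D = 2 ^ 3},
      Cfsg.signalizerDelta 2 (D : Subgroup G) ⊓ centralizer {a}
  have hbalB : ∀ B, Big 2 3 A B → ∀ a ∈ A, a ≠ 1 →
      Cfsg.signalizerDelta 2 B ⊓ centralizer {a} ≤ Oc a := fun B hB a ha ha1 =>
    hbal B hB.1 (isEA h hB.1) hB.2 a ha ha1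
  have hLθ : ∀ a, ∀ B, Big 2 3 A B → Cfsg.signalizerDelta 2 B ⊓ centralizer {a} ≤ θ a := fun a B hB => by
    obtain ⟨D, hDB, -, hDk⟩ := exists_card_pow_le hAe hB.1 hB.2
    exact (inf_le_inf_right _ (signalizerDelta_anti hDB)).trans
      (le_iSup (fun D : {D : Subgroup G // D ≤ A ∧ Nat.card ↥D = 2 ^ 3} =>
        Cfsg.signalizerDelta 2 (D : Subgroup G) ⊓ centralizer {a}) ⟨D, hDB.trans hB.1, hDk⟩)
  have hcore : ∀ a ∈ A, a ≠ 1 → θ a ≤ Oc a := fun a ha ha1 =>
    iSup_le fun D => hbalB D ⟨D.2.1, D.2.2.ge⟩ a ha ha1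
  have hsolv : ∀ a ∈ A, a ≠ 1 → Group.IsSolvable ↥(θ a) := fun a ha ha1 =>
    Cfsg.Lib.Coprime.isSolvable_of_le (hcore a ha ha1) (Cfsg.Agent.PF.isSolvable_of_odd _ (odd_core a))
  have hAC : ∀ B, Big 2 3 A B → A ≤ normalizer (Cfsg.signalizerDelta 2 B : Set G) := fun B hB a ha =>
    delta_normalized (mem_centralizer_iff.mpr fun b hb => h.comm b (hB.1 hb) a ha)
  have hinv : ∀ a ∈ A, A ≤ normalizer (θ a : Set G) := fun a ha b hb =>
    Cfsg.Lib.Sft.mem_normalizer_iSup _ fun D => Cfsg.Lib.Coprime.le_normalizer_inf (hAC _ ⟨D.2.1, D.2.2.ge⟩)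
      ((h.le_cent ha).trans le_normalizer) hb
  have hnp : ∀ a ∈ A, a ≠ 1 → ¬ 2 ∣ Nat.card (θ a) := fun a ha ha1 h =>
    Nat.not_even_iff_odd.2 (odd_core a) (even_iff_two_dvd.2 (h.trans (card_dvd_of_le (hcore a ha ha1))))
  have hfun : Cfsg.IsSignalizerFunctor 2 A θ := by
    refine ⟨fun a _ _ => iSup_le fun D => inf_le_right, hnp,
      fun a ha _ b hb x hx => (mem_normalizer_iff.mp (hinv a ha hb) x).mp hx, fun a ha ha1 b hb hb1 => ?_⟩
    have hmain : ∀ B, Big 2 3 A B → θ a ⊓ centralizer (B : Set G) ≤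
        Cfsg.signalizerDelta 2 B ⊓ centralizer {a} := by
      refine inf_centralizer_le hAe hAk _ (θ a) rfl (hsolv a ha ha1) (hnp a ha ha1) (hinv a ha)
        (fun B => Cfsg.signalizerDelta 2 B ⊓ centralizer {a}) (fun B hB => le_inf (hLθ a B hB) ?_) ?_ ?_ ?_
      · intro x hx
        refine mem_centralizer_iff.mpr fun c hc => ?_
        by_cases hc1 : c = 1
        · subst hc1; simp
        · exact (mem_centralizer_singleton_iff.mp (centralizerPPrimeCore_le_centralizer c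
            (signalizerDelta_le hc hc1 hx.1))).symm
      · intro B hB
        refine Cfsg.Lib.Coprime.le_normalizer_inf
          (sup_le (hAC B hB) (fun x hx => delta_normalized hx.2))
          (sup_le ((h.le_cent ha).trans le_normalizer) ?_)
        exact (inf_le_left.trans (iSup_le fun D => inf_le_right)).trans le_normalizer
      · intro B B' hB hB' x hx
        refine ⟨mem_signalizerDelta.mpr fun c hc hc1 => hbalB B hB c (hB'.1 hc) hc1 ⟨hx.1.1, ?_⟩, hx.1.2⟩
        exact centralizer_le (Set.singleton_subset_iff.mpr hc) hx.2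
      · exact iSup_le fun D => le_iSup (fun B : {B // Big 2 3 A B} =>
          Cfsg.signalizerDelta 2 B.1 ⊓ centralizer {a}) ⟨D.1, D.2.1, D.2.2.ge⟩
    have hX : ¬ 2 ∣ Nat.card ↥(θ a ⊓ centralizer {b}) := fun h =>
      hnp a ha ha1 (h.trans (card_dvd_of_le inf_le_left))
    rw [Cfsg.Agent.S1324.result 2 A (θ a ⊓ centralizer {b}) hAe (sq_le hAk) hX
      (Cfsg.Lib.Coprime.le_normalizer_inf (hinv a ha) ((h.le_cent hb).trans le_normalizer))]
    refine iSup_le fun H x hx => hLθ b H ?_ ⟨(hmain H ?_ ⟨hx.1.1, hx.2⟩).1, hx.1.2⟩ <;>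
      exact big_of_relIndex_le (j := 1) (le_trans (by norm_num) hAk) H.2.1 (by simpa using H.2.2)
  obtain ⟨W, hW, hWle⟩ := Cfsg.Lib.Sft.exists_member hAe (le_trans (by norm_num) hAk) ⟨hfun, hsolv⟩
  have hle : W3 A ≤ W := by
    refine iSup_le fun B => ?_
    have hB : B.1 ≠ ⊥ := fun e => by
      have := B.2.2.2
      rw [e, card_bot] at this
      omega
    rw [Cfsg.Agent.S1324.result 2 A (Cfsg.signalizerDelta 2 B.1) hAe (sq_le hAk)
      ((Fact.out : Nat.Prime 2).coprime_iff_not_dvd.mp (signalizerDelta_coprime hB).symm)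
      (hAC _ ⟨B.2.1, B.2.2.2⟩)]
    refine iSup_le fun H => ?_
    have hH : Big 2 3 A H.1 :=
      big_of_relIndex_le (j := 1) (le_trans (by norm_num) hAk) H.2.1 (by simpa using H.2.2)
    obtain ⟨a, ha, ha1⟩ := (bot_or_exists_ne_one H.1).resolve_left (fun e => by
      have := hH.2
      rw [e, card_bot] at this
      omega)
    exact ((inf_le_inf_left _ (centralizer_le (Set.singleton_subset_iff.mpr ha))).trans
      (hLθ a B ⟨B.2.1, B.2.2.2⟩)).trans (hWle a (H.2.1 ha) ha1)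
  exact Nat.not_even_iff_odd.1 fun h => hW.2.1 ((even_iff_two_dvd.1 h).trans (card_dvd_of_le hle))

theorem W3_eq (h : Min S A) (hA : Local A) (h64 : 64 ≤ Nat.card A) {E : Subgroup G}
    (hE : E ≤ A) (h16 : 16 ≤ Nat.card E) : W3 A = W3 E := by
  haveI : Fact (Nat.Prime 2) := ⟨Nat.prime_two⟩
  obtain ⟨h1, h2⟩ := Cfsg.Lib.KBal.closure_eq 3 (by norm_num) h.elemAb
    (le_trans (by norm_num) h64) (balanced h hA)
  exact h1.symm.trans (h2 E hE (by simpa using h16))

theorem W3_normalized (h : Min S A) (hA : Local A) (h64 : 64 ≤ Nat.card A) :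
    normalizer (A : Set G) ≤ normalizer (W3 A : Set G) := by
  haveI : Fact (Nat.Prime 2) := ⟨Nat.prime_two⟩
  intro g hg
  rw [mem_normalizer_iff_map_conj_eq]
  refine Subgroup.eq_of_le_of_card_ge ?_ (card_map_of_injective (MulAut.conj g).injective).ge
  rw [Subgroup.map_iSup]
  refine iSup_le fun B => ?_
  rw [show ((MulAut.conj g : MulAut G) : G →* G) = (MulAut.conj g).toMonoidHom from rfl,
    signalizerDelta_map_equiv]
  refine le_iSup_of_le ⟨B.1.map (MulAut.conj g).toMonoidHom, ?_, isElementaryAbelian_map B.2.2.1 _, ?_⟩ le_rfl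
  · rintro _ ⟨b, hb, rfl⟩
    exact (mem_normalizer_iff.1 hg b).1 (B.2.1 hb)
  · rw [card_map_of_injective (MulAut.conj g).injective]; exact B.2.2.2

theorem cent_le_W3 (h : Min S A) (hA : Local A) (h64 : 64 ≤ Nat.card A) {E : Subgroup G}
    (hE : E ≤ A) (h16 : 16 ≤ Nat.card E) :
    centralizer (E : Set G) ≤ normalizer (W3 A : Set G) := by
  haveI : Fact (Nat.Prime 2) := ⟨Nat.prime_two⟩
  intro g hg
  rw [W3_eq h hA h64 hE h16]
  exact Cfsg.Lib.Sft.mem_normalizer_iSup _ fun B => delta_normalized (centralizer_le B.2.1 hg)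

/-- **Parcel 6**: the big branch. -/
theorem bigSpec : BigSpec G := by
  intro S A h hA h8 hC
  haveI : Fact (Nat.Prime 2) := ⟨Nat.prime_two⟩
  by_cases hex : ∃ a L, Moved A a L
  swap
  · exact proper_of_no_moved h hA h8 fun a L hm => hex ⟨a, L, hm⟩
  obtain ⟨a₀, L₀, hm₀⟩ := hex
  have h64 : 64 ≤ Nat.card A := by
    have h1 := Subgroup.relIndex_mul_relIndex ⊥ (ZA A a₀ L₀) A bot_le inf_le_left
    rw [relIndex_bot_left, relIndex_bot_left] at h1
    have h2 := Nat.mul_le_mul (hC.big hm₀) (hA.index hm₀)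
    omega
  by_cases hW : W3 A = ⊥
  · exact proper_of_delta h hA hC ⟨a₀, L₀, hm₀⟩ fun B hB hB8 => eq_bot_iff.2 (hW ▸
      le_iSup (fun B : {B : Subgroup G // B ≤ A ∧ Cfsg.IsElementaryAbelian 2 B ∧ 2 ^ 3 ≤ Nat.card ↥B} =>
        Cfsg.signalizerDelta 2 (B : Subgroup G)) ⟨B, hB, isEA h hB, by simpa using hB8⟩)
  set M := normalizer (W3 A : Set G)
  have hN : normalizer (A : Set G) ≤ M := W3_normalized h hA h64
  have hO : ∀ a ∈ A, a ≠ 1 → Oc a ≤ M := fun a ha ha1 => by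
    have hA4 : (2 : ℕ) ^ 2 ≤ Nat.card A := by simpa using h.four
    have hodd : ¬ 2 ∣ Nat.card ↥(Oc a) := fun hd =>
      Nat.not_even_iff_odd.2 (odd_core a) (even_iff_two_dvd.2 hd)
    rw [Cfsg.Agent.S1324.result 2 A (Oc a) h.elemAb hA4 hodd ((h.le_cent ha).trans (oc_norm' a))]
    refine iSup_le fun U => inf_le_right.trans (cent_le_W3 h hA h64 U.2.1 ?_)
    have h1 := Subgroup.relIndex_mul_relIndex ⊥ U.1 A bot_le U.2.1
    rw [relIndex_bot_left, relIndex_bot_left] at h1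
    have h2 := Nat.mul_le_mul_left (Nat.card U.1) U.2.2
    omega
  refine h.proper_of_le (ne_top_of_odd h hW (odd_W3 h hA h64)) fun a ha ha1 => (hA.generated ha ha1).trans
    (sup_le (sup_le (hO a ha ha1) (iSup_le fun K => ?_)) (inf_le_left.trans hN))
  refine (PTerminal.cover K.2.2.2.1 (S.2.to_le (inf_le_left.trans h.le))
    (inf_le_right : ZA A a K.1 ≤ PTerminal.Cent 2 (centralizer ({a} : Set G)) K.1)).trans (sup_le ?_ ?_)
  · exact inf_le_right.trans (cent_le_W3 h hA h64 inf_le_left (hC.big K.2))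
  · exact inf_le_right.trans (hO a ha ha1)

end Cfsg.Lib.Goldschmidt.Big
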