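import Cfsg.Agent.Goldschmidt.Class.Basic
import Cfsg.Agent.Components.BalanceDelta
import Cfsg.Agent.Components.Layer
import Cfsg.Agent.S1324

/-!
The big branch with trivial closure: terminal components are components, they commute pairwise, and the normaliser
of their join is proper and contains every centraliser of an involution of `A`.
-/

set_option autoImplicit false
set_option linter.unusedSectionVars false
set_option linter.style.haveILetI false

namespace Cfsg.Lib.Goldschmidt.Big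

open Subgroup Cfsg.Lib.Components
open scoped commutatorElement
open Cfsg.Lib.Walter (IsComp Triv Oc)
open Cfsg.Lib.Components.PTerminal (Cent Core mem_cent)

universe u

variable {G : Type u} [Group G] [Finite G] {S : Sylow 2 G} {A : Subgroup G} {a : G} {L : Subgroup G}

/-- `Δ` of the subgroups of rank three is trivial. -/
def DeltaTriv (A : Subgroup G) : Prop :=
  ∀ B : Subgroup G, B ≤ A → 8 ≤ Nat.card B → Cfsg.signalizerDelta 2 B = ⊥

theorem oc_norm' (b : G) : centralizer ({b} : Set G) ≤ normalizer (Oc b : Set G) :=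
  PTerminal.le_normalizer_core (p := 2) _

theorem le_norm_sup (H K : Subgroup G) :
    normalizer (H : Set G) ⊓ normalizer (K : Set G) ≤ normalizer ((H ⊔ K : Subgroup G) : Set G) := fun g hg => by
  rw [mem_normalizer_iff_map_conj_eq, Subgroup.map_sup]
  exact congrArg₂ (· ⊔ ·) (mem_normalizer_iff_map_conj_eq.1 hg.1) (mem_normalizer_iff_map_conj_eq.1 hg.2)

theorem perfect_of_comp (hc : IsComp a L) : ⁅L, L⁆ = L := by
  haveI : Fact (Nat.Prime 2) := ⟨Nat.prime_two⟩
  have := congrArg (Subgroup.map (centralizer ({a} : Set G)).subtype) (pcomp_perfect (p := 2) hc.2)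
  rwa [map_commutator, map_subgroupOf_eq_of_le hc.1] at this

/-- A subgroup containing the 2-elements of `D` has odd index in it. -/
theorem odd_relIndex {D M : Subgroup G} (h : ∀ v ∈ D, IsPGroup 2 (zpowers v) → v ∈ M) :
    ¬ 2 ∣ M.relIndex D := by
  haveI : Fact (Nat.Prime 2) := ⟨Nat.prime_two⟩
  obtain ⟨P⟩ : Nonempty (Sylow 2 ↥D) := inferInstance
  have hle : (P : Subgroup ↥D) ≤ M.subgroupOf D := fun v hv => h v v.2 ((P.2.map D.subtype).to_le
    (zpowers_le.2 ⟨v, hv, rfl⟩))
  exact fun hd => P.not_dvd_index (hd.trans (Subgroup.index_dvd_of_le hle))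

theorem card_inf_ge {Z U : Subgroup G} (hZ : Z ≤ A) (h16 : 16 ≤ Nat.card Z) (hrel : U.relIndex A ≤ 2) :
    8 ≤ Nat.card ↥(U ⊓ Z) := by
  have h1 := Subgroup.relIndex_mul_relIndex ⊥ (U ⊓ Z) Z bot_le inf_le_right
  rw [relIndex_bot_left, relIndex_bot_left, inf_relIndex_right] at h1
  have h2 : U.relIndex Z ≤ 2 := (relIndex_le_of_le_right hZ index_ne_zero_of_finite).trans hrel
  have := h1 ▸ Nat.mul_le_mul_left (Nat.card ↥(U ⊓ Z)) h2
  omega

variable (h : Min S A) (hA : Local A) (hC : Classed A) (hΔ : DeltaTriv A)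
include h hA

theorem self_cent {b x : G} (hm : Moved A a L) (hb : b ∈ ZA A a L) (hb1 : b ≠ 1) (hx : x ∈ Oc b)
    (hxa : x ∈ centralizer ({a} : Set G)) : x ∈ Cent 2 (centralizer ({a} : Set G)) L := by
  haveI : Fact (Nat.Prime 2) := ⟨Nat.prime_two⟩
  refine (mem_cent hm.2.2.1.1).2 ⟨hxa, fun l hl => ?_⟩
  have h1 : ⁅x, l⁆ ∈ Oc a := hA.bal hm hb hb1 hx hxa l hl
  rw [← commutatorElement_inv]
  exact inv_mem h1

include hC

/-- The piece of the core in a fixed-point group of a hyperplane commutes with the 2-elements of `L ∩ C(Z_L)`. -/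
theorem commute_piece (hΔ : DeltaTriv A) (ht : Terminal A a L) {U : Subgroup G} (hrel : U.relIndex A ≤ 2)
    {v x : G} (hv : v ∈ L) (hvZ : v ∈ centralizer (ZA A a L : Set G)) (hv2 : IsPGroup 2 (zpowers v))
    (hx : x ∈ Oc a) (hxU : x ∈ centralizer (U : Set G)) : v * x = x * v := by
  haveI : Fact (Nat.Prime 2) := ⟨Nat.prime_two⟩
  set B := U ⊓ ZA A a L with hB
  suffices h1 : ⁅v, x⁆ ∈ Cfsg.signalizerDelta 2 B by
    rw [hΔ B (inf_le_right.trans inf_le_left) (card_inf_ge inf_le_left (hC.big ht.1) hrel), mem_bot] at h1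
    exact commutatorElement_eq_one_iff_mul_comm.1 h1
  refine mem_signalizerDelta.2 fun y hy hy1 => ?_
  obtain ⟨K, hK, he, hcov⟩ := h.exists_lift hA ht hy.2 hy1
  set C := centralizer ({y} : Set G) with hCdef
  have hxC : x ∈ C := mem_centralizer_singleton_iff.2 (mem_centralizer_iff.1 hxU y hy.1).symm
  have haK : a ∈ ZA A y K := he ▸ h.self_mem ht.1
  have hO : Oc a ⊓ C ≤ Cent 2 C K := fun z hz => self_cent h hA hK haK ht.1.2.1 hz.1 hz.2
  have hxK : x ∈ Cent 2 C K := hO ⟨hx, hxC⟩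
  have hW : Oc a ⊓ C ≤ normalizer ((K ⊔ Oc y : Subgroup G) : Set G) :=
    (le_inf (hO.trans (PTerminal.cent_le_normalizer hK.2.2.1)) (inf_le_right.trans (oc_norm' y))).trans
      (le_norm_sup K (Oc y))
  have hvC : v ∈ C := mem_centralizer_singleton_iff.2 (mem_centralizer_iff.1 hvZ y hy.2).symm
  have hvM : v ∈ K ⊔ Oc y := by
    refine PTerminal.pelem_mem (p := 2) hv2 (hcov (mem_inf.2 ⟨hv, hvC⟩)) le_sup_left
      (sup_le le_normalizer hW) ?_
    rw [Cfsg.Lib.Misc.ControlExtension.relIndex_sup_of_le_normalizer hW]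
    exact (Nat.coprime_two_right.2 (odd_oc a)).coprime_dvd_left
      ((relIndex_dvd_card _ _).trans (card_dvd_of_le inf_le_left))
  obtain ⟨o, ho, k, hk, rfl⟩ := (Cfsg.Lib.Coprime.mem_sup_of_le_normalizer'
    (PTerminal.core_le_normalizer (p := 2) hK.2.2.1)).1 hvM
  have h1 : ⁅k, x⁆ ∈ Oc y := ((mem_cent hK.2.2.1.1).1 hxK).2 k hk
  have hoC : o ∈ C := PTerminal.core_le (p := 2) _ ho
  have h2 : x * o⁻¹ * x⁻¹ ∈ Oc y := (mem_normalizer_iff.1 (oc_norm' y hxC) o⁻¹).1 (inv_mem ho)
  show ⁅o * k, x⁆ ∈ Oc y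
  rw [show ⁅o * k, x⁆ = o * ⁅k, x⁆ * (x * o⁻¹ * x⁻¹) by rw [commutatorElement_def, commutatorElement_def]; group]
  exact mul_mem (mul_mem ho h1) h2

/-- A terminal component centralises the core. -/
theorem le_cent_core (hΔ : DeltaTriv A) (ht : Terminal A a L) : L ≤ centralizer (Oc a : Set G) := by
  haveI : Fact (Nat.Prime 2) := ⟨Nat.prime_two⟩
  have hc := ht.1.2.2.1
  set C := centralizer ({a} : Set G)
  set D := L ⊓ centralizer (ZA A a L : Set G)
  set M := L ⊓ centralizer (Oc a : Set G)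
  have hA4 : (2 : ℕ) ^ 2 ≤ Nat.card A := by simpa using h.four
  have hodd : ¬ 2 ∣ Nat.card ↥(Oc a) := fun hd => Nat.not_even_iff_odd.2 (odd_oc a) (even_iff_two_dvd.2 hd)
  have hgen := Cfsg.Agent.S1324.result 2 A (Oc a) h.elemAb hA4 hodd ((h.le_cent ht.1.1).trans (oc_norm' a))
  have hvM : ∀ v ∈ D, IsPGroup 2 (zpowers v) → v ∈ M := fun v hv hv2 => by
    refine ⟨hv.1, mem_centralizer_iff.2 fun x hx => ?_⟩
    have hle : Oc a ≤ centralizer ({v} : Set G) := by
      rw [hgen]
      exact iSup_le fun U z hz => mem_centralizer_singleton_iff.2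
        (commute_piece h hA hC hΔ ht U.2.2 hv.1 hv.2 hv2 hz.1 hz.2).symm
    exact mem_centralizer_singleton_iff.1 (hle hx)
  have hR : ZA A a L ≤ Cent 2 C L := inf_le_right
  have hcov := PTerminal.cover hc (S.2.to_le (inf_le_left.trans h.le)) hR
  set W := M ⊔ (L ⊓ Oc a)
  have hWn : L ≤ normalizer (W : Set G) := by
    refine (le_inf ?_ ?_).trans (le_norm_sup M (L ⊓ Oc a))
    · exact (le_inf le_normalizer ((hc.1.trans (oc_norm' a)).trans
        (Cfsg.Lib.Thompson.normalizer_le_normalizer_centralizer _))).trans inf_normalizer_le_normalizer_inf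
    · exact (le_inf le_normalizer (hc.1.trans (oc_norm' a))).trans inf_normalizer_le_normalizer_inf
  have hidx : (W.relIndex L).Coprime 2 := by
    refine Nat.coprime_two_right.2 (Nat.not_even_iff_odd.1 fun he => ?_)
    have hsup : W ⊔ D = L := le_antisymm (sup_le (sup_le inf_le_left inf_le_left) inf_le_left)
      (hcov.trans (sup_le le_sup_right ((le_sup_right (a := M)).trans le_sup_left)))
    have h2 := even_iff_two_dvd.1 he
    rw [← hsup, Cfsg.Lib.Misc.ControlExtension.relIndex_sup_of_le_normalizer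
      ((inf_le_left : D ≤ L).trans hWn)] at h2
    exact odd_relIndex (M := W) (fun v hv hv2 => mem_sup_left (hvM v hv hv2)) h2
  have hLW : L ≤ W := PTerminal.le_of_normal_coprime hc le_rfl (sup_le inf_le_left inf_le_left) hWn hidx
  have hLn : L ≤ normalizer (M : Set G) :=
    (le_inf le_normalizer ((hc.1.trans (oc_norm' a)).trans
      (Cfsg.Lib.Thompson.normalizer_le_normalizer_centralizer _))).trans inf_normalizer_le_normalizer_inf
  refine (PTerminal.le_of_normal_coprime hc hLW le_sup_left (sup_le le_normalizer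
    ((inf_le_left : L ⊓ Oc a ≤ L).trans hLn)) ?_).trans inf_le_right
  rw [Cfsg.Lib.Misc.ControlExtension.relIndex_sup_of_le_normalizer ((inf_le_left : L ⊓ Oc a ≤ L).trans hLn)]
  exact (Nat.coprime_two_right.2 (odd_oc a)).coprime_dvd_left
    ((relIndex_dvd_card _ _).trans (card_dvd_of_le inf_le_right))

/-- A terminal component centralises its `Z_L`. -/
theorem le_cent_ZA (hΔ : DeltaTriv A) (ht : Terminal A a L) : L ≤ centralizer (ZA A a L : Set G) := by
  haveI : Fact (Nat.Prime 2) := ⟨Nat.prime_two⟩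
  have hc := ht.1.2.2.1
  set D := L ⊓ centralizer (ZA A a L : Set G)
  have hcov := PTerminal.cover hc (S.2.to_le (inf_le_left.trans h.le))
    (inf_le_right : ZA A a L ≤ Cent 2 (centralizer ({a} : Set G)) L)
  have hn : L ⊓ Oc a ≤ normalizer (D : Set G) := fun x hx => centralizer_le_normalizer _
    (mem_centralizer_iff.2 fun d hd => (mem_centralizer_iff.1 (le_cent_core h hA hC hΔ ht hd.1) x hx.2).symm)
  refine (PTerminal.le_of_normal_coprime hc hcov le_sup_left (sup_le le_normalizer hn) ?_).trans inf_le_right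
  show (D.relIndex (D ⊔ L ⊓ Oc a)).Coprime 2
  rw [Cfsg.Lib.Misc.ControlExtension.relIndex_sup_of_le_normalizer hn]
  exact (Nat.coprime_two_right.2 (odd_oc a)).coprime_dvd_left
    ((relIndex_dvd_card _ _).trans (card_dvd_of_le inf_le_right))

/-- A terminal component is a component of the centraliser of each involution of its `Z_L`. -/
theorem terminal_at (hΔ : DeltaTriv A) (ht : Terminal A a L) {y : G} (hy : y ∈ ZA A a L) (hy1 : y ≠ 1) :
    Terminal A y L ∧ ZA A y L = ZA A a L := by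
  haveI : Fact (Nat.Prime 2) := ⟨Nat.prime_two⟩
  -- a lift contains the component
  have key : ∀ {a y : G} {L : Subgroup G}, Terminal A a L → y ∈ ZA A a L → y ≠ 1 →
      ∀ K, Moved A y K → ZA A y K = ZA A a L → L ≤ K := by
    intro a y L ht hy hy1 K hK he
    obtain ⟨K₀, hK₀, he₀, hcov⟩ := h.exists_lift hA ht hy hy1
    rw [h.comp_unique hA hK hK₀ (he₀.trans he.symm)] at hcov
    set C := centralizer ({y} : Set G)
    have hLC : L ≤ C := fun l hl => mem_centralizer_singleton_iff.2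
      (mem_centralizer_iff.1 (le_cent_ZA h hA hC hΔ ht hl) y hy).symm
    have haK : a ∈ ZA A y K := he ▸ h.self_mem ht.1
    have hW : Oc a ⊓ C ≤ normalizer ((K ⊔ Oc y : Subgroup G) : Set G) :=
      (le_inf (le_trans (show Oc a ⊓ C ≤ Cent 2 C K from fun z hz => self_cent h hA hK haK ht.1.2.1 hz.1 hz.2)
        (PTerminal.cent_le_normalizer hK.2.2.1)) (inf_le_right.trans (oc_norm' y))).trans
        (le_norm_sup K (Oc y))
    have hLK : L ≤ K ⊔ Oc y := by
      refine PTerminal.le_of_normal_coprime ht.1.2.2.1 ((le_inf le_rfl hLC).trans hcov) le_sup_left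
        (sup_le le_normalizer hW) ?_
      rw [Cfsg.Lib.Misc.ControlExtension.relIndex_sup_of_le_normalizer hW]
      exact (Nat.coprime_two_right.2 (odd_oc a)).coprime_dvd_left
        ((relIndex_dvd_card _ _).trans (card_dvd_of_le inf_le_left))
    exact PTerminal.le_of_le_sup_core hK.2.2.1 ht.1.2.2.1 hLK
  obtain ⟨K, hK, he, -⟩ := h.exists_lift hA ht hy hy1
  have hKt : Terminal A y K := ht.of_eq hK he
  have e : K = L := le_antisymm
    (key hKt (he ▸ h.self_mem ht.1) ht.1.2.1 L ht.1 he.symm) (key ht hy hy1 K hK he)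
  subst e
  exact ⟨hKt, he⟩

/-- Different terminal components share an involution of `A` centralised by both. -/
theorem exists_common (hΔ : DeltaTriv A) {b : G} {K : Subgroup G} (ht : Terminal A a L) (hk : Terminal A b K) :
    ∃ y, y ∈ ZA A a L ∧ y ∈ ZA A b K ∧ y ≠ 1 ∧ Terminal A y L ∧ ZA A y L = ZA A a L ∧
      Terminal A y K ∧ ZA A y K = ZA A b K := by
  obtain ⟨y, hy, hy1⟩ := (bot_or_exists_ne_one _).resolve_left (hC.meet ht hk)
  obtain ⟨h1, h2⟩ := terminal_at h hA hC hΔ ht hy.1 hy1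
  obtain ⟨h3, h4⟩ := terminal_at h hA hC hΔ hk hy.2 hy1
  exact ⟨y, hy.1, hy.2, hy1, h1, h2, h3, h4⟩

/-- Components of one centraliser which centralise its core commute. -/
theorem commute_of_comp {y : G} {K : Subgroup G} (hL : IsComp y L) (hK : IsComp y K) (hne : L ≠ K)
    (hLO : L ≤ centralizer (Oc y : Set G)) : ⁅L, K⁆ = ⊥ := by
  haveI : Fact (Nat.Prime 2) := ⟨Nat.prime_two⟩
  refine commutator_eq_bot_of_perfect (perfect_of_comp hL) (eq_bot_iff.2 ?_)
  refine (commutator_mono ((commutator_mono le_rfl (PTerminal.pcompOf_le_cent hL hK hne)).trans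
    (PTerminal.commutator_cent_le hL.1)) le_rfl).trans ?_
  rw [commutator_comm]
  exact (commutator_eq_bot_iff_le_centralizer.2 hLO : ⁅L, Oc y⁆ = ⊥).le

omit hC in
/-- There is an element of `A ∩ L` outside `Z_L` in every hyperplane. -/
theorem exists_moving (hm : Moved A a L) {U : Subgroup G} (hrel : U.relIndex A ≤ 2) :
    ∃ u ∈ A, u ∈ L ∧ u ∈ U ∧ u ∉ ZA A a L := by
  by_contra hno
  push Not at hno
  set Z := ZA A a L
  set V := A ⊓ L
  have hn : V ≤ normalizer (Z : Set G) := fun v hv =>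
    centralizer_le_normalizer _ (mem_centralizer_iff.2 fun z hz => h.comm z hz.1 v hv.1)
  have h4 := hA.index hm
  rw [show Z.relIndex A = Z.relIndex (Z ⊔ V) by rw [hA.sup hm],
    Cfsg.Lib.Misc.ControlExtension.relIndex_sup_of_le_normalizer hn] at h4
  have h1 : Z.relIndex V ≤ (U ⊓ V).relIndex V := relIndex_le_of_le_left
    (fun u hu => hno u hu.2.1 hu.2.2 hu.1) index_ne_zero_of_finite
  rw [inf_relIndex_right] at h1
  have h2 : U.relIndex V ≤ U.relIndex A := relIndex_le_of_le_right inf_le_left index_ne_zero_of_finite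
  omega

omit hC in
/-- An element fixing an element of `A ∩ L` outside `Z_L` normalises `L`. -/
theorem norm_of_fix (hm : Moved A a L) {g u : G} (hg : g ∈ centralizer ({a} : Set G)) (hu : u ∈ A) (huL : u ∈ L)
    (huZ : u ∉ ZA A a L) (hgu : g * u = u * g) : g ∈ normalizer (L : Set G) := by
  haveI : Fact (Nat.Prime 2) := ⟨Nat.prime_two⟩
  rw [mem_normalizer_iff_map_conj_eq]
  by_contra hne
  have hc' : IsComp a (L.map (MulAut.conj g).toMonoidHom) := by
    have := comp_conj hm.2.2.1 g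
    rwa [mem_centralizer_singleton_iff.1 hg, mul_inv_cancel_right] at this
  have hu' : u ∈ L.map (MulAut.conj g).toMonoidHom :=
    ⟨u, huL, show g * u * g⁻¹ = u by rw [hgu, mul_inv_cancel_right]⟩
  exact huZ ⟨hu, PTerminal.pcompOf_le_cent hm.2.2.1 hc' (fun e => hne e.symm) hu'⟩

omit hA hC in
/-- An element of `A` has no other conjugate centralising `A`. -/
theorem conj_mem (g : G) {u : G} (hu : u ∈ A) (hw : g * u * g⁻¹ ∈ centralizer (A : Set G)) : g * u * g⁻¹ ∈ A := by
  haveI : Fact (Nat.Prime 2) := ⟨Nat.prime_two⟩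
  set w := g * u * g⁻¹ with hwdef
  have hw2 : IsPGroup 2 ↥(zpowers w) := (S.2.to_le ((zpowers_le.2 hu).trans h.le)).map
    (MulAut.conj g).toMonoidHom |>.to_le (zpowers_le.2 ⟨u, mem_zpowers u, rfl⟩)
  have hn : zpowers w ≤ normalizer (A : Set G) := zpowers_le.2 (centralizer_le_normalizer _ hw)
  obtain ⟨R, hR⟩ := ((S.2.to_le h.le).to_sup_of_normal_left' hw2 hn).exists_le_sylow
  obtain ⟨x, hx⟩ := MulAction.exists_smul_eq G R S
  have hmap : ∀ r ∈ R, x * r * x⁻¹ ∈ (S : Subgroup G) := fun r hr => by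
    rw [← hx, Sylow.coe_subgroup_smul]
    exact ⟨r, hr, rfl⟩
  have hxN : x ∈ normalizer (A : Set G) := mem_normalizer_of_le h.closed fun z hz => hmap z (hR (mem_sup_left hz))
  have h1 := hmap w (hR (mem_sup_right (mem_zpowers w)))
  rw [show x * w * x⁻¹ = x * g * u * (x * g)⁻¹ by rw [hwdef]; group] at h1
  have h2 := h.closed.2 u hu _ h1
  rw [show x * g * u * (x * g)⁻¹ = x * w * x⁻¹ by rw [hwdef]; group] at h2
  exact (mem_normalizer_iff.1 hxN w).2 h2

/-- The join of the terminal components. -/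
def Jt (A : Subgroup G) : Subgroup G := ⨆ p : {p : G × Subgroup G // Terminal A p.1 p.2}, (p : G × Subgroup G).2

omit h hA hC in
theorem le_Jt (ht : Terminal A a L) : L ≤ Jt A :=
  le_iSup (fun p : {p : G × Subgroup G // Terminal A p.1 p.2} => (p : G × Subgroup G).2) ⟨(a, L), ht⟩

omit h hA hC in
theorem norm_Jt {g : G} (hg : ∀ b K, Terminal A b K → g ∈ normalizer (K : Set G)) :
    g ∈ normalizer (Jt A : Set G) := by
  refine ZStarApps.mem_normalizer_of_maps fun x hx => ?_
  refine (iSup_le fun p => ?_ : Jt A ≤ (Jt A).comap (MulAut.conj g).toMonoidHom) hx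
  intro y hy
  exact le_Jt p.2 ((mem_normalizer_iff.1 (hg _ _ p.2) y).1 hy)

omit h hA hC in
theorem normA_le : normalizer (A : Set G) ≤ normalizer (Jt A : Set G) := fun g hg => by
  refine ZStarApps.mem_normalizer_of_maps fun x hx => ?_
  refine (iSup_le fun p => ?_ : Jt A ≤ (Jt A).comap (MulAut.conj g).toMonoidHom) hx
  intro y hy
  exact le_Jt (p.2.conj hg) ⟨y, hy, rfl⟩

/-- `C(U)` normalises every terminal component, for a hyperplane `U`. -/
theorem cent_hyperplane (hΔ : DeltaTriv A) {U : Subgroup G} (hrel : U.relIndex A ≤ 2) :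
    centralizer (U : Set G) ≤ normalizer (Jt A : Set G) := fun g hg => norm_Jt fun b K ht => by
  have h8 : 8 ≤ Nat.card ↥(U ⊓ ZA A b K) := card_inf_ge inf_le_left (hC.big ht.1) hrel
  obtain ⟨y, hy, hy1⟩ := (bot_or_exists_ne_one (U ⊓ ZA A b K)).resolve_left fun e => by
    rw [e, card_bot] at h8; omega
  obtain ⟨hty, he⟩ := terminal_at h hA hC hΔ ht hy.2 hy1
  obtain ⟨u, huA, huK, huU, huZ⟩ := exists_moving h hA hty.1 hrel
  exact norm_of_fix h hA hty.1 (mem_centralizer_singleton_iff.2 (mem_centralizer_iff.1 hg y hy.1).symm)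
    huA huK huZ (mem_centralizer_iff.1 hg u huU).symm

/-- `C(Z_L)` normalises every terminal component, for a moved `L`. -/
theorem cent_ZA (hΔ : DeltaTriv A) (hm : Moved A a L) :
    centralizer (ZA A a L : Set G) ≤ normalizer (Jt A : Set G) := by
  haveI : Fact (Nat.Prime 2) := ⟨Nat.prime_two⟩
  obtain ⟨b, L₁, ht, hle⟩ := h.exists_terminal hA hm
  intro g hg0
  have hg := Subgroup.centralizer_le hle hg0
  refine norm_Jt fun c K hk => ?_
  obtain ⟨y, hy, hy', hy1, hty, hey, hky, hky'⟩ := exists_common h hA hC hΔ ht hk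
  have hgy : g ∈ centralizer ({y} : Set G) :=
    mem_centralizer_singleton_iff.2 (mem_centralizer_iff.1 hg y hy).symm
  by_cases he : L₁ = K
  swap
  · obtain ⟨u, huA, huK, -, huZ⟩ := exists_moving h hA hky.1 (U := A) (by rw [relIndex_self]; omega)
    have hu1 : u ∈ ZA A b L₁ := hey ▸ hA.other hty.1 hky.1 he ⟨huA, huK⟩
    exact norm_of_fix h hA hky.1 hgy huA huK huZ (mem_centralizer_iff.1 hg u hu1).symm
  subst he
  rw [mem_normalizer_iff_map_conj_eq]
  by_contra hne
  set L' := L₁.map (MulAut.conj g).toMonoidHom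
  have hgb : g ∈ centralizer ({b} : Set G) :=
    mem_centralizer_singleton_iff.2 (mem_centralizer_iff.1 hg b (h.self_mem ht.1)).symm
  have hc' : IsComp b L' := by
    have := comp_conj ht.1.2.2.1 g
    rwa [mem_centralizer_singleton_iff.1 hgb, mul_inv_cancel_right] at this
  have hcomm : ⁅L₁, L'⁆ = ⊥ :=
    commute_of_comp h hA hC ht.1.2.2.1 hc' (fun e => hne e.symm) (le_cent_core h hA hC hΔ ht)
  have hL'Z : L' ≤ centralizer (ZA A b L₁ : Set G) := by
    rintro _ ⟨l, hl, rfl⟩
    exact mul_mem (mul_mem hg (le_cent_ZA h hA hC hΔ ht hl)) (inv_mem hg)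
  have hL'A : L' ≤ centralizer (A : Set G) := by
    rw [le_centralizer_iff, ← hA.sup ht.1]
    refine sup_le (le_centralizer_iff.1 hL'Z) ?_
    exact inf_le_right.trans (commutator_eq_bot_iff_le_centralizer.1 hcomm)
  obtain ⟨u, huA, huK, -, huZ⟩ := exists_moving h hA ht.1 (U := A) (by rw [relIndex_self]; omega)
  have hw : g * u * g⁻¹ ∈ L' := ⟨u, huK, rfl⟩
  have hwA := conj_mem h g huA (hL'A hw)
  refine huZ ((mem_ZA ht.1).2 ⟨huA, h.le_cent ht.1.1 huA, fun l hl => ?_⟩)
  have h1 := mem_centralizer_iff.1 (hL'A (show g * l * g⁻¹ ∈ L' from ⟨l, hl, rfl⟩)) _ hwA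
  rw [_root_.conj_mul, _root_.conj_mul, mul_left_inj, mul_right_inj] at h1
  rw [commutatorElement_eq_one_iff_mul_comm.2 h1.symm]
  exact one_mem _

/-- **Trivial closure**: the centralisers of the involutions of `A` generate a proper subgroup. -/
theorem proper_of_delta (hex : ∃ a L, Moved A a L)
    (hΔ : ∀ B : Subgroup G, B ≤ A → 8 ≤ Nat.card B → Cfsg.signalizerDelta 2 B = ⊥) : Proper A := by
  haveI : Fact (Nat.Prime 2) := ⟨Nat.prime_two⟩
  haveI := h.simple
  obtain ⟨a₀, L₀, hm₀⟩ := hex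
  obtain ⟨b, L₁, ht, -⟩ := h.exists_terminal hA hm₀
  obtain ⟨u, huA, huK, -, huZ⟩ := exists_moving h hA ht.1 (U := A) (by rw [relIndex_self]; omega)
  have hu1 : u ≠ 1 := fun e => huZ (e ▸ one_mem _)
  have hJbot : Jt A ≠ ⊥ := fun e => hu1 (mem_bot.1 (e ▸ le_Jt ht huK))
  have hJtop : Jt A ≠ ⊤ := by
    intro e
    have hn : Jt A ≤ normalizer (L₁ : Set G) := iSup_le fun p => by
      obtain ⟨⟨c, K⟩, hk⟩ := p
      show K ≤ normalizer (L₁ : Set G)
      by_cases he : L₁ = K
      · rw [he]; exact le_normalizer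
      obtain ⟨y, hy, hy', hy1, hty, hey, hky, hky'⟩ := exists_common h hA hC hΔ ht hk
      exact (commutator_eq_bot_iff_le_centralizer.1 (by
        rw [commutator_comm]
        exact commute_of_comp h hA hC hty.1.2.2.1 hky.1.2.2.1 he (le_cent_core h hA hC hΔ hty) :
          ⁅K, L₁⁆ = ⊥)).trans (centralizer_le_normalizer _)
    rw [e, top_le_iff, normalizer_eq_top_iff] at hn
    rcases hn.eq_bot_or_eq_top with e1 | e1
    · exact hu1 (mem_bot.1 (e1 ▸ huK))
    · have hbc : b ∈ center G := mem_center_iff.2 fun g =>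
        mem_centralizer_singleton_iff.1 (ht.1.2.2.1.1 (e1 ▸ mem_top g))
      rcases IsSimpleGroup.eq_bot_or_eq_top_of_normal (center G) inferInstance with e2 | e2
      · exact ht.1.2.1 (mem_bot.1 (e2 ▸ hbc))
      · exact h.nonab ⟨⟨fun x y => mem_center_iff.1 (e2 ▸ mem_top y) x⟩⟩
  refine h.proper_of_le (M := normalizer (Jt A : Set G)) (fun e => ?_) fun a ha ha1 => ?_
  · rcases IsSimpleGroup.eq_bot_or_eq_top_of_normal _ (normalizer_eq_top_iff.1 e) with e' | e'
    · exact hJbot e'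
    · exact hJtop e'
  have hO : ∀ a ∈ A, a ≠ 1 → Oc a ≤ normalizer (Jt A : Set G) := fun a ha ha1 => by
    have hA4 : (2 : ℕ) ^ 2 ≤ Nat.card A := by simpa using h.four
    have hodd : ¬ 2 ∣ Nat.card ↥(Oc a) := fun hd => Nat.not_even_iff_odd.2 (odd_oc a) (even_iff_two_dvd.2 hd)
    rw [Cfsg.Agent.S1324.result 2 A (Oc a) h.elemAb hA4 hodd ((h.le_cent ha).trans (oc_norm' a))]
    exact iSup_le fun U => inf_le_right.trans (cent_hyperplane h hA hC hΔ U.2.2)
  refine (hA.generated ha ha1).trans (sup_le (sup_le (hO a ha ha1) (iSup_le fun K => ?_)) fun g hg => normA_le hg.1)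
  refine (PTerminal.cover K.2.2.2.1 (S.2.to_le (inf_le_left.trans h.le))
    (inf_le_right : ZA A a K.1 ≤ Cent 2 (centralizer ({a} : Set G)) K.1)).trans (sup_le ?_ ?_)
  · exact inf_le_right.trans (cent_ZA h hA hC hΔ K.2)
  · exact inf_le_right.trans (hO a ha ha1)

end Cfsg.Lib.Goldschmidt.Big
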